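import Groth.Agent.FMKLib.ClosedTensor
import Groth.Agent.FMKLib.ConvBC
import Groth.Agent.DCohMore.BCGeneral
import Groth.Agent.DCohMore.RpushBdd
import Groth.Agent.DCohLib.SuppOpen
import Groth.Agent.SuppLib.Basic
import Groth.Agent.PullbackMod.SuppClosed

/-!
# Morphisms into skyscraper sheaves in the derived category
-/

set_option autoImplicit false
set_option linter.style.haveILetI false
set_option backward.isDefEq.respectTransparency false
set_option maxHeartbeats 1000000

universe u

open CategoryTheory CategoryTheory.Limits AlgebraicGeometry TopologicalSpace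
open CategoryTheory.Pretriangulated

attribute [local instance] HasDerivedCategory.standard

noncomputable section

namespace Groth.Agent.SkyHomLib

open Groth.Agent.DCohLib Groth.Agent.DCohMore

/-- The skyscraper sheaf at a point with value the residue field. -/
abbrev skyO (X : Scheme.{u}) (x : X) : X.Modules :=
  (Coh.push (X.fromSpecResidueField x)).obj (Coh.structureModule _)

theorem support_congr {X : Scheme.{u}} {M N : X.Modules} (e : M ≅ N) : CohB1.support M = CohB1.support N := by
  ext x
  exact not_congr (((TopCat.Presheaf.stalkFunctor Ab x).mapIso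
    ((Scheme.Modules.toPresheaf X).mapIso e)).addCommGroupIsoToAddEquiv.toEquiv.subsingleton_congr)

/-- Restricting away from the support gives zero. -/
theorem isZero_restrict_of_disjoint {X : Scheme.{u}} {M : X.Modules} [Coh.IsQCoh M] (hM : CohB1.IsFT M)
    (U : X.Opens) (h : ∀ y ∈ U, y ∉ CohB1.support M) :
    IsZero ((Scheme.Modules.restrictFunctor U.ι).obj M) := by
  refine isZero_of_stalks fun y => ?_
  by_contra hy
  have hy' : y ∈ CohB1.support ((Scheme.Modules.restrictFunctor U.ι).obj M) := hy
  rw [support_congr ((Scheme.Modules.restrictFunctorIsoPullback U.ι).app M), SuppLib.support_pullback U.ι M hM] at hy'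
  exact h (U.ι y) y.2 hy'

/-- A nonzero quasi-coherent sheaf on a field point maps nonzero to the structure sheaf. -/
theorem exists_hom_ne_zero_field {k : CommRingCat.{u}} (hk : IsField k) (N : (Spec k).Modules) [Coh.IsQCoh N]
    (h : ¬ IsZero N) : ∃ ψ : N ⟶ Coh.structureModule (Spec k), ψ ≠ 0 := by
  letI := hk.toField
  obtain ⟨V, ⟨e⟩⟩ := isIso_fromTildeΓ_iff.1 (Scheme.Modules.isIso_fromTildeΓ_of_isQuasicoherent N)
  obtain ⟨v, hv⟩ : ∃ v : V, v ≠ 0 := by
    by_contra hc
    haveI : Subsingleton V := subsingleton_of_forall_eq 0 fun v => not_not.1 fun hv => hc ⟨v, hv⟩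
    exact h ((((tilde.functor k).map_isZero (ModuleCat.isZero_of_subsingleton V))).of_iso e.symm)
  obtain ⟨φ, hφ⟩ : ∃ φ : (V : Type u) →ₗ[k] k, φ v ≠ 0 := by
    by_contra hc
    push_neg at hc
    exact hv ((Module.forall_dual_apply_eq_zero_iff (R := k) v).1 hc)
  refine ⟨e.inv ≫ (tilde.functor k).map (ModuleCat.ofHom (Y := k) φ) ≫ tildeSelf.hom, fun h0 => ?_⟩
  have h1 : (tilde.functor k).map (ModuleCat.ofHom (Y := k) φ) = 0 := by
    rw [← cancel_epi e.inv, ← cancel_mono (tildeSelf (R := k)).hom, comp_zero, zero_comp, Category.assoc]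
    exact h0
  have h2 : ModuleCat.ofHom (Y := k) φ = 0 := (tilde.functor k).map_eq_zero_iff.1 h1
  exact hφ (congr($(h2) v))

/-- A coherent sheaf maps nonzero to the skyscraper at a point of its support. -/
theorem exists_hom_ne_zero_of_mem_support {X : Scheme.{u}} {x : X} {Z : Scheme.{u}} (i : Z ⟶ X)
    (M : X.Modules) [Coh.IsQCoh M] (hM : CohB1.IsFT M) {k : CommRingCat.{u}} (hk : IsField k) (e : Z = Spec k)
    (z : Z) (hz : i z = x) (hx : x ∈ CohB1.support M) :
    ∃ ψ : M ⟶ (Scheme.Modules.pushforward i).obj (Coh.structureModule Z), ψ ≠ 0 := by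
  subst e
  haveI : Coh.IsQCoh ((Scheme.Modules.pullback i).obj M) := PullbackMod.isQCoh_pullback i M
  have hne : ¬ IsZero ((Scheme.Modules.pullback i).obj M) := fun h => by
    have hz' : z ∈ CohB1.support ((Scheme.Modules.pullback i).obj M) := by
      rw [SuppLib.support_pullback i M hM]
      show i z ∈ CohB1.support M
      rwa [hz]
    exact hz' (ModuleCat.subsingleton_of_isZero ((stkF z).map_isZero h))
  obtain ⟨ψ, hψ⟩ := exists_hom_ne_zero_field hk _ hne
  let adj := Scheme.Modules.pullbackPushforwardAdjunction i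
  refine ⟨adj.homEquiv _ _ ψ, fun h0 => hψ ?_⟩
  rw [← (adj.homEquiv _ _).symm_apply_apply ψ, h0, Adjunction.homEquiv_counit, Functor.map_zero, zero_comp]

variable {X : Scheme.{u}}

/-- Morphisms into a skyscraper only see a neighbourhood of the point. -/
theorem nonempty_hom_equiv (x : X) (hx : IsClosed ({x} : Set X)) (U : X.Opens) (hxU : x ∈ U) (K : DCoh.D X) (n : ℤ) :
    ∃ (k : CommRingCat.{u}) (_ : IsField k) (iU : Spec k ⟶ (U : Scheme.{u})) (z : Spec k),
      IsClosedImmersion iU ∧ U.ι (iU z) = x ∧
      Nonempty ((K ⟶ (DerivedCategory.singleFunctor X.Modules n).obj (skyO X x)) ≃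
        ((DCoh.restrictD U.ι).obj K ⟶ (DerivedCategory.singleFunctor (U : Scheme.{u}).Modules n).obj
          ((Scheme.Modules.pushforward iU).obj (Coh.structureModule (Spec k))))) := by
  let i := X.fromSpecResidueField x
  have hr : Set.range i ⊆ Set.range U.ι := by
    rw [Scheme.range_fromSpecResidueField, Scheme.Opens.range_ι]
    rintro _ rfl
    exact hxU
  let iU := IsOpenImmersion.lift U.ι i hr
  have hfac : iU ≫ U.ι = i := IsOpenImmersion.lift_fac U.ι i hr
  haveI hi : IsClosedImmersion i := isClosed_singleton_iff_isClosedImmersion.1 hx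
  haveI : IsClosedImmersion (iU ≫ U.ι) := by rw [hfac]; exact hi
  haveI : IsClosedImmersion iU := IsClosedImmersion.of_comp iU U.ι
  refine ⟨X.residueField x, Field.toIsField (X.residueField x : Type u), iU, default, inferInstance, ?_, ?_⟩
  · rw [← Scheme.Hom.comp_apply, hfac]
    exact Scheme.fromSpecResidueField_apply x _
  let j := U.ι
  haveI := BC.hasRpush i
  haveI := BC.hasRpush iU
  haveI := BC.hasRpush j
  haveI := hasLpull j
  obtain ⟨ri⟩ := FMKLib.nonempty_rpush_closed i
  obtain ⟨rU⟩ := FMKLib.nonempty_rpush_closed iU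
  obtain ⟨c⟩ : Nonempty (DCoh.Rpush iU ⋙ DCoh.Rpush j ≅ DCoh.Rpush i) := by
    have key : ∀ (h : _ ⟶ X) (_ : DCoh.HasRpush h), iU ≫ j = h →
        Nonempty (DCoh.Rpush iU ⋙ DCoh.Rpush j ≅ DCoh.Rpush h) := by
      rintro h _ rfl
      exact nonempty_rpushCompIso iU j
    exact key i inferInstance hfac
  let O := Coh.structureModule (Spec (X.residueField x))
  let T := (DerivedCategory.singleFunctor (Spec (X.residueField x)).Modules n).obj O
  let eT : (DerivedCategory.singleFunctor X.Modules n).obj (skyO X x) ≅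
      (DCoh.Rpush j).obj ((DerivedCategory.singleFunctor (U : Scheme.{u}).Modules n).obj
        ((Scheme.Modules.pushforward iU).obj O)) :=
    (((Scheme.Modules.pushforward i).mapDerivedCategorySingleFunctor n).app O).symm ≪≫ ri.symm.app T ≪≫
      (c.app T).symm ≪≫ (DCoh.Rpush j).mapIso (rU.app T ≪≫
        ((Scheme.Modules.pushforward iU).mapDerivedCategorySingleFunctor n).app O)
  exact ⟨((Iso.refl K).homCongr eT).trans (((lpullRpushAdj j).homEquiv _ _).symm.trans
    (((lpullRestrictNatIso j).app K).homCongr (Iso.refl _)))⟩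

/-- Morphisms into a degree `n` object from an object bounded above by `n` vanish or come from homology. -/
theorem exists_hom_ne_zero_of_isLE {C : Type*} [Category C] [Abelian C] [HasDerivedCategory C]
    (K : DerivedCategory C) (n : ℤ) [K.IsLE n] (G : C)
    (h : ∃ ψ : (DerivedCategory.homologyFunctor C n).obj K ⟶ G, ψ ≠ 0) :
    ∃ φ : K ⟶ (DerivedCategory.singleFunctor C n).obj G, φ ≠ 0 := by
  obtain ⟨ψ, hψ⟩ := h
  let t := DerivedCategory.TStructure.t (C := C)
  let T := (t.truncGE n).obj K
  let π := (t.truncGEπ n).app K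
  haveI : T.IsGE n := inferInstanceAs (t.IsGE ((t.truncGE n).obj K) n)
  haveI : t.IsLE K n := ‹K.IsLE n›
  haveI : T.IsLE n := inferInstanceAs (t.IsLE ((t.truncGE n).obj K) n)
  obtain ⟨Y, ⟨e⟩⟩ := DerivedCategory.exists_iso_singleFunctor_obj_of_isGE_of_isLE T n
  haveI hiso : IsIso ((DerivedCategory.homologyFunctor C n).map π) := DCohLib.isIso_homology_truncGEπ K n n le_rfl
  let u : Y ≅ (DerivedCategory.homologyFunctor C n).obj K :=
    ((DerivedCategory.singleFunctorCompHomologyFunctorIso C n).app Y).symm ≪≫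
      (DerivedCategory.homologyFunctor C n).mapIso e.symm ≪≫ (asIso ((DerivedCategory.homologyFunctor C n).map π)).symm
  refine ⟨π ≫ e.hom ≫ (DerivedCategory.singleFunctor C n).map (u.hom ≫ ψ), fun h0 => hψ ?_⟩
  haveI : t.IsGE ((DerivedCategory.singleFunctor C n).obj G) n :=
    inferInstanceAs (((DerivedCategory.singleFunctor C n).obj G).IsGE n)
  have h1 : e.hom ≫ (DerivedCategory.singleFunctor C n).map (u.hom ≫ ψ) = 0 :=
    t.from_truncGE_obj_ext (by rw [h0, comp_zero])
  have h2 : (DerivedCategory.singleFunctor C n).map (u.hom ≫ ψ) = 0 := by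
    rwa [← cancel_epi e.hom, comp_zero]
  rw [← cancel_epi u.hom, comp_zero]
  exact (DerivedCategory.singleFunctor C n).map_eq_zero_iff.1 h2

end Groth.Agent.SkyHomLib
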